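import Groth.Agent.Lib.DualRing.ShriekRelProps
import Groth.Agent.Lib.DualRing.InvertibleLocus
import Groth.Agent.Lib.DualCx22.LocalUnique
import Groth.Agent.Lib.DualCx22.EssFT
import Groth.Agent.S11179
import Groth.Agent.Lib.DualRing.ShriekGorFibres
import Groth.Agent.Lib.GorFlat.Main

/-! # Openness of the relative Gorenstein locus of a flat algebra of finite type -/

set_option autoImplicit false
set_option linter.style.haveILetI false
set_option maxHeartbeats 800000
universe u

open CategoryTheory CategoryTheory.Limits HomologicalComplex GrothLib.DualCx22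
open IsLocalRing (maximalIdeal)
open scoped TensorProduct

attribute [local instance] HasDerivedCategory.standard

namespace GrothLib.DualRing

namespace Shriek

attribute [local instance] pfl_of_flat

variable {R A : Type u} [CommRing R] [CommRing A] [IsNoetherianRing R] [IsNoetherianRing A] [Algebra R A]
  [Module.Flat R A] [Algebra.FinitePresentation R A] {n : ℕ} (ψ : MvPolynomial (Fin n) R →ₐ[R] A)
  (hψ : Function.Surjective ψ) {E : DRing.Cx A} (hE : GrothLib.KF.IsKFlat E)
  (e : DRing.toD E ≅ GP ψ (Dual.inD R R))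

include hψ hE e in
/-- Invertibility near a point gives a Gorenstein fibre there. -/
theorem gor_fibre_of_away (p : PrimeSpectrum R) (q' : Ideal (p.asIdeal.ResidueField ⊗[R] A)) [q'.IsPrime]
    (f : A) (hf : f ∉ q'.comap (Algebra.TensorProduct.includeRight : A →ₐ[R] p.asIdeal.ResidueField ⊗[R] A).toRingHom)
    (m : ℤ) (ef : DRing.toD ((DR.bc (algebraMap A (Localization.Away f))).obj E) ≅
        (Dual.inD (Localization.Away f) (Localization.Away f))⟦m⟧) :
    LocCoh.IsGorensteinLocalRing (Localization.AtPrime q') := by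
  let B := p.asIdeal.ResidueField ⊗[R] A
  haveI : Algebra.FiniteType p.asIdeal.ResidueField B := inferInstance
  haveI : IsNoetherianRing B := Algebra.FiniteType.isNoetherianRing p.asIdeal.ResidueField B
  let D := Localization.AtPrime q'
  let α : A →+* B := (Algebra.TensorProduct.includeRight : A →ₐ[R] B).toRingHom
  let χ : A →+* D := (algebraMap B D).comp α
  have hu : IsUnit (χ f) := IsLocalization.map_units D (⟨α f, hf⟩ : q'.primeCompl)
  let g : Localization.Away f →+* D := IsLocalization.Away.lift f hu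
  have hg : g.comp (algebraMap A (Localization.Away f)) = χ := IsLocalization.Away.lift_comp f hu
  obtain ⟨eD⟩ := nonempty_bc_shift_one g (GrothLib.KF.isKFlat_baseChange _ E hE) m ef
  have h1 : Dual.IsDualizing D (DRing.toD ((DR.bc χ).obj E)) := isDualizing_bc_fibre ψ hψ hE e p q'
  rw [← hg] at h1
  have h2 : Dual.IsDualizing D ((Dual.inD D D)⟦m⟧) :=
    GrothLib.DualCx22.isDualizing_of_iso (DerivedCategory.Q.mapIso (DR.bcCompIso _ g E) ≪≫ eD) h1
  have h3 : Dual.IsDualizing D (Dual.inD D D) :=
    GrothLib.DualCx22.isDualizing_of_iso ((shiftShiftNeg (Dual.inD D D) m))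
      (GrothLib.DualRing.isDualizing_shift h2 (-m))
  exact (Groth.Agent.S11179.result D).2 h3

omit hE in
include hψ e in
/-- A Gorenstein fibre local ring gives invertibility nearby. -/
theorem exists_away_of_gor {b : ℤ} (hb : DRing.VanishesAbove E b) (hf : DRing.TermwiseFiniteFree E)
    (q : PrimeSpectrum A) (p : PrimeSpectrum R) (q' : Ideal (p.asIdeal.ResidueField ⊗[R] A)) [q'.IsPrime]
    (hq' : q'.comap (Algebra.TensorProduct.includeRight : A →ₐ[R] p.asIdeal.ResidueField ⊗[R] A).toRingHom = q.asIdeal)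
    (hG : LocCoh.IsGorensteinLocalRing (Localization.AtPrime q')) :
    ∃ (f : A) (_ : f ∉ q.asIdeal) (m : ℤ),
      Nonempty (DRing.toD ((DR.bc (algebraMap A (Localization.Away f))).obj E) ≅
        (Dual.inD (Localization.Away f) (Localization.Away f))⟦m⟧) := by
  have hEK : GrothLib.KF.IsKFlat E :=
    GrothLib.KF.isKFlat_of_bounded_above E b hb fun i => haveI := (hf i).2; inferInstanceAs (Module.Flat A (E.X i))
  let B := p.asIdeal.ResidueField ⊗[R] A
  let α : A →+* B := (Algebra.TensorProduct.includeRight : A →ₐ[R] B).toRingHom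
  let D := Localization.AtPrime q'
  let χ : A →+* D := (algebraMap B D).comp α
  have hd : Dual.IsDualizing D (DRing.toD ((DR.bc χ).obj E)) := isDualizing_bc_fibre ψ hψ hEK e p q'
  haveI := hG
  haveI : Algebra.FiniteType p.asIdeal.ResidueField B := inferInstance
  haveI : IsNoetherianRing B := Algebra.FiniteType.isNoetherianRing p.asIdeal.ResidueField B
  obtain ⟨m, ⟨eD⟩⟩ := exists_shift_iso_local ((Groth.Agent.S11179.result D).1 inferInstance) hd
  let C := Localization.AtPrime q.asIdeal
  have hu : ∀ y : q.asIdeal.primeCompl, IsUnit (χ y) := fun y =>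
    IsLocalization.map_units D (⟨α y, fun hy => y.2 (hq'.le hy)⟩ : q'.primeCompl)
  let h : C →+* D := IsLocalization.lift hu
  have hh : h.comp (algebraMap A C) = χ := IsLocalization.lift_comp hu
  let π : D →+* IsLocalRing.ResidueField D := IsLocalRing.residue D
  -- the local homomorphism
  have hloc : ∀ c ∈ maximalIdeal C, (π.comp h) c = 0 := by
    intro c hc
    obtain ⟨a, t, rfl⟩ := IsLocalization.exists_mk'_eq q.asIdeal.primeCompl c
    rw [IsLocalization.AtPrime.mk'_mem_maximal_iff C q.asIdeal] at hc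
    have ha : a ∈ q'.comap α := hq'.symm ▸ hc
    have h0 : π (χ a) = 0 := (IsLocalRing.residue_eq_zero_iff _).2
      ((IsLocalization.AtPrime.to_map_mem_maximal_iff D q' (α a)).2 ha)
    have h1 : h (IsLocalization.mk' C a t) * χ t = χ a := by
      rw [← hh]
      simp only [RingHom.comp_apply, ← map_mul, IsLocalization.mk'_spec]
    have h2 : π (h (IsLocalization.mk' C a t)) * π (χ t) = 0 := by rw [← map_mul, h1, h0]
    exact (mul_eq_zero.1 h2).resolve_right ((hu t).map π).ne_zero
  let E' := (DR.bc (algebraMap A C)).obj E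
  have hχ : GrothLib.KF.IsKFlat ((DR.bc χ).obj E) := GrothLib.KF.isKFlat_baseChange χ E hEK
  obtain ⟨eK⟩ := nonempty_bc_shift_one π hχ m eD
  have ec : DRing.toD ((DR.bc (π.comp h)).obj E') ≅ DRing.toD ((DR.bc π).obj ((DR.bc χ).obj E)) :=
    DerivedCategory.Q.mapIso (DR.bcCompIso h π E' ≪≫ (DR.bc π).mapIso
      ((DR.bcCompIso (algebraMap A C) h E).symm ≪≫ eqToIso (by rw [hh])))
  obtain ⟨eC⟩ := nonempty_iso_shift_of_residue (π.comp h) hloc (E := E')
    (fun i hi => (ModuleCat.extendScalars.{u, u, u} (algebraMap A C)).map_isZero (hb i hi))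
    (termwiseFiniteFree_bc _ hf) m (ec ≪≫ eK)
  -- spreading out
  haveI : Module.Flat A C := IsLocalization.flat C q.asIdeal.primeCompl
  haveI : ∀ f : A, Module.Flat A (Localization.Away f) := fun f => IsLocalization.flat _ (Submonoid.powers f)
  obtain ⟨⟨a, b', hab⟩, hfin, -⟩ := props_GP ψ hψ
  let eH : ∀ i, Dual.HD A (GP ψ (Dual.inD R R)) i ≃ₗ[A] Dual.HD A (DRing.toD E) i := fun i =>
    ((DerivedCategory.homologyFunctor (ModuleCat.{u} A) i).mapIso e.symm).toLinearEquiv
  obtain ⟨f, hfq, ⟨ef⟩⟩ := exists_away_iso_shift (DRing.toD E)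
    (fun i => haveI := hfin i; Module.Finite.equiv (eH i)) (Finset.Icc a b')
    (fun i hi => by
      rw [Finset.mem_Icc] at hi
      haveI := hab i (by omega)
      exact (eH i).symm.toEquiv.subsingleton)
    q.asIdeal m ((bcMod (A := A) C).mapDerivedCategoryFactors.app E ≪≫ eC)
  exact ⟨f, hfq, m, ⟨((bcMod (A := A) (Localization.Away f)).mapDerivedCategoryFactors.app E).symm ≪≫ ef⟩⟩

end Shriek

namespace Shriek

attribute [local instance] pfl_of_flat

/-- The relative Gorenstein locus of a flat algebra of finite type over a Noetherian ring is open. -/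
theorem isOpen_gorFibreLocus (R A : Type u) [CommRing R] [CommRing A] [IsNoetherianRing R] [IsNoetherianRing A]
    [Algebra R A] [Module.Flat R A] [Algebra.FinitePresentation R A] :
    IsOpen {q : PrimeSpectrum A | ∀ (p : PrimeSpectrum R) (q' : Ideal (p.asIdeal.ResidueField ⊗[R] A)) [q'.IsPrime],
      q'.comap (Algebra.TensorProduct.includeRight : A →ₐ[R] p.asIdeal.ResidueField ⊗[R] A).toRingHom = q.asIdeal →
        LocCoh.IsGorensteinLocalRing (Localization.AtPrime q')} := by
  obtain ⟨n, ψ, hψ⟩ := Algebra.FiniteType.iff_quotient_mvPolynomial''.mp (inferInstance : Algebra.FiniteType R A)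
  obtain ⟨E, b, hb, hf, ⟨e⟩⟩ := (GrothLib.DualRing.Shriek.isRelPerfect_GP ψ hψ).1
  have hE : GrothLib.KF.IsKFlat E := GrothLib.KF.isKFlat_of_bounded_above E b hb
    fun i => haveI := (hf i).2; inferInstanceAs (Module.Flat A (E.X i))
  refine isOpen_iff_forall_mem_open.2 fun q hq => ?_
  let p : PrimeSpectrum R := ⟨q.asIdeal.comap (algebraMap R A), inferInstance⟩
  haveI : q.asIdeal.LiesOver p.asIdeal := ⟨rfl⟩
  let Q := PrimeSpectrum.primesOverOrderIsoFiber R A p.asIdeal ⟨q.asIdeal, inferInstance, ⟨rfl⟩⟩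
  have hQ : Q.asIdeal.comap (Algebra.TensorProduct.includeRight :
      A →ₐ[R] p.asIdeal.ResidueField ⊗[R] A).toRingHom = q.asIdeal := by
    have : Q.asIdeal.comap Algebra.TensorProduct.includeRight = q.asIdeal := by
      rw [← PrimeSpectrum.coe_primesOverOrderIsoFiber_symm_apply p.asIdeal Q, OrderIso.symm_apply_apply]
    exact this
  obtain ⟨f, hfq, m, ⟨ef⟩⟩ := exists_away_of_gor ψ hψ e hb hf q p Q.asIdeal hQ (hq p Q.asIdeal hQ)
  refine ⟨PrimeSpectrum.basicOpen f, fun q₁ hq₁ p₁ q' _ hq' => ?_, (PrimeSpectrum.basicOpen f).isOpen, hfq⟩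
  exact gor_fibre_of_away ψ hψ hE e p₁ q' f (hq'.symm ▸ hq₁) m ef

end Shriek

end GrothLib.DualRing
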