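import Groth.Agent.Lib.CurveStk.CM
import Groth.Agent.Lib.LCI6.InLocus
import Groth.Agent.Lib.CurveStk.GorRing
import Groth.Agent.Lib.CurveLocus.CM
import Groth.Agent.Lib.GorMor23.BaseChange
import Groth.Agent.Lib.AlgSp.GorPoint
import Groth.Agent.S9759
import Groth.Agent.S0341

/-!
# The Gorenstein property as a pointwise property; openness of the relative Gorenstein locus
-/

set_option backward.isDefEq.respectTransparency false

universe u

open CategoryTheory CategoryTheory.Limits AlgebraicGeometry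
open scoped TensorProduct

namespace GrothLib.CurveStk

open GrothLib.GorMor23

/-- Base change invariance of the Gorenstein property at a point. -/
theorem gorAt_baseChange {X Y X' Y' : Scheme.{u}} {gX : X' ⟶ X} {f' : X' ⟶ Y'} {f : X ⟶ Y} {g : Y' ⟶ Y}
    (sq : IsPullback gX f' f g) [Flat f] [LocallyOfFiniteType f] (x' : X') :
    Dual3.IsGorensteinAt f' x' ↔ Dual3.IsGorensteinAt f (gX x') := by
  have : Flat f' := MorphismProperty.of_isPullback sq ‹Flat f›
  rw [isGorensteinAt_iff, isGorensteinAt_iff, isGorensteinAt_baseChange_iff_of_finiteType sq x']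
  exact ⟨fun h => ⟨Flat.stalkMap f _, h.2⟩, fun h => ⟨Flat.stalkMap f' x', h.2⟩⟩

theorem gorAt_etale {U V U' V' : Scheme.{u}} (h : U ⟶ V) (h' : U' ⟶ V') (a : U' ⟶ U) (b : V' ⟶ V) [Etale a]
    [Etale b] [LocallyOfFiniteType h] (comm : h' ≫ b = a ≫ h) (u : U') :
    Dual3.IsGorensteinAt h' u ↔ Dual3.IsGorensteinAt h (a u) :=
  (GrothLib.AlgSp.isGorensteinAt_etale_iff h h' a b comm u (GrothLib.CMMor6.isLocallyNoetherian_fiber h _)).symm

/-- Over a field, being Gorenstein at a point is being Gorenstein. -/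
theorem gorAt_field_iff {k : Type u} [Field k] {X : Scheme.{u}} (h : X ⟶ Spec (CommRingCat.of k)) (x : X) :
    Dual3.IsGorensteinAt h x ↔ LocCoh.IsGorensteinLocalRing (X.presheaf.stalk x) :=
  ⟨fun hg => (GrothLib.GorFlat.gorenstein_congr (GrothLib.CurveLocus.fiberStalkEquiv h (𝟙 _) x)).1 hg.2,
    fun hg => ⟨GrothLib.CurveLocus.flat_stalkMap h (𝟙 _) x,
      (GrothLib.GorFlat.gorenstein_congr (GrothLib.CurveLocus.fiberStalkEquiv h (𝟙 _) x)).2 hg⟩⟩

theorem gor_stalk_spec_iff (T : CommRingCat.{u}) (q : Spec T) :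
    LocCoh.IsGorensteinLocalRing ((Spec T).presheaf.stalk q) ↔
      LocCoh.IsGorensteinLocalRing (Localization.AtPrime q.asIdeal) := by
  letI : Algebra T ((Spec T).presheaf.stalk q) := StructureSheaf.stalkAlgebra T q
  haveI : IsLocalization.AtPrime ((Spec T).presheaf.stalk q) q.asIdeal :=
    StructureSheaf.IsLocalization.to_stalk T q
  exact (GrothLib.GorFlat.gorenstein_congr (IsLocalization.algEquiv q.asIdeal.primeCompl
    (Localization.AtPrime q.asIdeal) ((Spec T).presheaf.stalk q)).toRingEquiv).symm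

/-- The relative Gorenstein locus of a flat ring map of finite type between Noetherian rings is open. -/
theorem isOpen_gorAt_specMap {R A : CommRingCat.{u}} [IsNoetherianRing R] [IsNoetherianRing A] (φ : R ⟶ A)
    [Flat (Spec.map φ)] [LocallyOfFiniteType (Spec.map φ)] :
    IsOpen {q : Spec A | Dual3.IsGorensteinAt (Spec.map φ) q} := by
  letI := φ.hom.toAlgebra
  haveI : Module.Flat R A := Flat.SpecMap_iff.1 (inferInstance : Flat (Spec.map φ))
  haveI : Algebra.FiniteType R A :=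
    (HasRingHomProperty.Spec_iff (P := @LocallyOfFiniteType)).1 (inferInstance : LocallyOfFiniteType (Spec.map φ))
  haveI : Algebra.FinitePresentation R A := Algebra.FinitePresentation.of_finiteType.1 inferInstance
  have key : ∀ (p : PrimeSpectrum R) (q' : Ideal (p.asIdeal.ResidueField ⊗[R] A)) [q'.IsPrime] (q : Spec A),
      q'.comap (Algebra.TensorProduct.includeRight : A →ₐ[R] p.asIdeal.ResidueField ⊗[R] A).toRingHom = q.asIdeal →
      (Dual3.IsGorensteinAt (Spec.map φ) q ↔ LocCoh.IsGorensteinLocalRing (Localization.AtPrime q')) := by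
    intro p q' _ q hq
    let K := p.asIdeal.ResidueField
    have sq : IsPullback (Spec.map (CommRingCat.ofHom (Algebra.TensorProduct.includeRight : A →ₐ[R] K ⊗[R] A).toRingHom))
        (Spec.map (CommRingCat.ofHom (Algebra.TensorProduct.includeLeftRingHom : K →+* K ⊗[R] A)))
        (Spec.map φ) (Spec.map (CommRingCat.ofHom (algebraMap R K))) :=
      (isPullback_SpecMap_of_isPushout _ _ _ _ (CommRingCat.isPushout_tensorProduct R K A)).flip
    let z : Spec (CommRingCat.of (K ⊗[R] A)) := ⟨q', inferInstance⟩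
    have hz : Spec.map (CommRingCat.ofHom (Algebra.TensorProduct.includeRight : A →ₐ[R] K ⊗[R] A).toRingHom) z = q :=
      PrimeSpectrum.ext hq
    rw [← hz, ← gorAt_baseChange sq z, gorAt_field_iff, gor_stalk_spec_iff]
  have e : {q : Spec A | Dual3.IsGorensteinAt (Spec.map φ) q} =
      {q : PrimeSpectrum A | ∀ (p : PrimeSpectrum R) (q' : Ideal (p.asIdeal.ResidueField ⊗[R] A)) [q'.IsPrime],
        q'.comap (Algebra.TensorProduct.includeRight : A →ₐ[R] p.asIdeal.ResidueField ⊗[R] A).toRingHom = q.asIdeal →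
          LocCoh.IsGorensteinLocalRing (Localization.AtPrime q')} := by
    ext q
    refine ⟨fun h p q' _ hq => (key p q' q hq).1 h, fun h => ?_⟩
    let p : PrimeSpectrum R := ⟨q.asIdeal.comap (algebraMap R A), inferInstance⟩
    haveI : q.asIdeal.LiesOver p.asIdeal := ⟨rfl⟩
    let Q := PrimeSpectrum.primesOverOrderIsoFiber R A p.asIdeal ⟨q.asIdeal, inferInstance, ⟨rfl⟩⟩
    have hQ : Q.asIdeal.comap (Algebra.TensorProduct.includeRight :
        A →ₐ[R] p.asIdeal.ResidueField ⊗[R] A).toRingHom = q.asIdeal := by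
      have : Q.asIdeal.comap Algebra.TensorProduct.includeRight = q.asIdeal := by
        rw [← PrimeSpectrum.coe_primesOverOrderIsoFiber_symm_apply p.asIdeal Q, OrderIso.symm_apply_apply]
      exact this
    exact (key p Q.asIdeal q hQ).2 (h p Q.asIdeal hQ)
  rw [e]
  exact GrothLib.DualRing.Shriek.isOpen_gorFibreLocus R A

/-- The relative Gorenstein locus of a flat morphism locally of finite presentation is open. -/
theorem isOpen_gorAt {X S : Scheme.{u}} (f : X ⟶ S) [Flat f] [LocallyOfFinitePresentation f] :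
    IsOpen {x : X | Dual3.IsGorensteinAt f x} := by
  refine isOpen_iff_forall_mem_open.2 fun x hx => ?_
  obtain ⟨V, hV, hy, -⟩ := GrothLib.LCI6.exists_affine_le (x := f x) (O := (⊤ : S.Opens)) trivial
  obtain ⟨U, hU, hxU, hUV⟩ := GrothLib.LCI6.exists_affine_le (x := x) (O := f ⁻¹ᵁ V) hy
  haveI : IsAffine (U : Scheme) := hU
  haveI : IsAffine (V : Scheme) := hV
  let h : (U : Scheme) ⟶ (V : Scheme) := f.resLE V U hUV
  have hh : h ≫ V.ι = U.ι ≫ f := Scheme.Hom.resLE_comp_ι f hUV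
  obtain ⟨X₀, S₀, f₀, g, g', hX₀, hS₀, sq, hft, hlft, hfl⟩ := Groth.Agent.S9759.result h
  haveI := hft
  haveI : IsNoetherianRing Γ(S₀, ⊤) := Algebra.FiniteType.isNoetherianRing ℤ Γ(S₀, ⊤)
  haveI : IsNoetherianRing Γ(X₀, ⊤) := by
    have hf' : (f₀.appTop).hom.FiniteType :=
      (HasRingHomProperty.iff_of_isAffine (P := @LocallyOfFiniteType)).1 hlft
    letI := (f₀.appTop).hom.toAlgebra
    haveI : Algebra.FiniteType Γ(S₀, ⊤) Γ(X₀, ⊤) := hf'
    exact Algebra.FiniteType.isNoetherianRing Γ(S₀, ⊤) _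
  let k := Spec.map f₀.appTop
  have hk : f₀ ≫ S₀.isoSpec.hom = X₀.isoSpec.hom ≫ k := Scheme.isoSpec_hom_naturality f₀ |>.symm
  have sqk : IsPullback X₀.isoSpec.hom f₀ k S₀.isoSpec.hom := IsPullback.of_horiz_isIso ⟨hk.symm⟩
  haveI : Flat k := by
    have : k = X₀.isoSpec.inv ≫ f₀ ≫ S₀.isoSpec.hom := by rw [hk, Iso.inv_hom_id_assoc]
    rw [this]; infer_instance
  haveI : LocallyOfFiniteType k := by
    have : k = X₀.isoSpec.inv ≫ f₀ ≫ S₀.isoSpec.hom := by rw [hk, Iso.inv_hom_id_assoc]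
    rw [this]; infer_instance
  have key : ∀ z : (U : Scheme), Dual3.IsGorensteinAt f (U.ι z) ↔
      Dual3.IsGorensteinAt k (X₀.isoSpec.hom (g' z)) := fun z => by
    rw [← gorAt_baseChange sqk (g' z), ← gorAt_baseChange sq z, ← gorAt_etale f h U.ι V.ι hh z]
  refine ⟨U.ι '' ((fun z => X₀.isoSpec.hom (g' z)) ⁻¹' {q | Dual3.IsGorensteinAt k q}), ?_, ?_, ?_⟩
  · rintro _ ⟨z, hz, rfl⟩
    exact (key z).2 hz
  · exact U.ι.isOpenEmbedding.isOpenMap _
      ((isOpen_gorAt_specMap f₀.appTop).preimage (X₀.isoSpec.hom.continuous.comp g'.continuous))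
  · exact ⟨⟨x, hxU⟩, (key ⟨x, hxU⟩).1 hx, rfl⟩

theorem ptProp_gor : PtProp.{u} fun _ _ f x => Dual3.IsGorensteinAt f x where
  etale_source {X Y Z} e h _ _ _ x := gorAt_etale h (e ≫ h) e (𝟙 Z) (Category.comp_id _) x
  etale_target {X Y Z} h e _ _ _ x := by
    haveI : LocallyOfFiniteType (h ≫ e) := inferInstance
    exact (gorAt_etale (h ≫ e) h (𝟙 X) e (Category.id_comp _).symm x).symm
  isOpen h _ _ := isOpen_gorAt h
  baseChange sq _ _ x' := gorAt_baseChange sq x'

theorem ptProp_gor_dim (d : WithBot ℕ∞) :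
    PtProp.{u} fun _ _ f x => Dual3.IsGorensteinAt f x ∧ (MoreMor.IsCMAt f x ∧ FlatMor.fibreDimAt f x = d) where
  etale_source e h _ _ _ x := and_congr (ptProp_gor.etale_source e h x) ((ptProp_cm_dim d).etale_source e h x)
  etale_target h e _ _ _ x := and_congr (ptProp_gor.etale_target h e x) ((ptProp_cm_dim d).etale_target h e x)
  isOpen h _ _ := (ptProp_gor.isOpen h).inter ((ptProp_cm_dim d).isOpen h)
  baseChange sq _ _ x' := and_congr (ptProp_gor.baseChange sq x') ((ptProp_cm_dim d).baseChange sq x')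

end GrothLib.CurveStk

namespace GrothLib.CurveStk

open _root_.AlgSp GrothLib.AlgSp GrothLib.AlgSp.TrivLocus

theorem isCMAt_of_gorAt {X Y : Scheme.{u}} {f : X ⟶ Y} {x : X} (h : Dual3.IsGorensteinAt f x) :
    MoreMor.IsCMAt f x :=
  haveI := h.2
  ⟨h.1, Groth.Agent.S0341.result _⟩

/-- Gorenstein of relative dimension `d` at every point. -/
theorem locP_gor_dim_iff {S : Scheme.{u}} {F G : Sp S} (hF : IsAlgSpace F) (hG : IsAlgSpace G) {f : F ⟶ G}
    (hf : LocP FlatLFP f) (d : WithBot ℕ∞) :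
    LocP (fun _ _ g => ∀ x, Dual3.IsGorensteinAt g x ∧ (MoreMor.IsCMAt g x ∧ FlatMor.fibreDimAt g x = d)) f ↔
      LocP (fun _ _ g => ∀ x, Dual3.IsGorensteinAt g x) f ∧
        ∀ x : Points F, HasAtMor (fun _ _ h u => FlatMor.fibreDimAt h u = d) f x := by
  constructor
  · intro h
    exact ⟨fun _ _ a b k ha hb c u => (h a b k ha hb c u).1,
      ((locP_cm_dim_iff hF hG hf d).1 fun _ _ a b k ha hb c u => (h a b k ha hb c u).2).2⟩
  · rintro ⟨h1, h2⟩ U V a b k ha hb c u
    exact ⟨h1 a b k ha hb c u,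
      (locP_cm_dim_iff hF hG hf d).2 ⟨fun _ _ a b k ha hb c u => isCMAt_of_gorAt (h1 a b k ha hb c u), h2⟩
        a b k ha hb c u⟩

end GrothLib.CurveStk
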