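import Groth.Agent.Lib.CurveStk.PtLocus
import Groth.Agent.Lib.CMMor6.Open
import Groth.Agent.Lib.CMMor6.BaseChange
import Groth.Agent.S7408
import Groth.Agent.S9374
import Groth.Agent.Lib.AlgSp.FibreDimBC
import Groth.Agent.Lib.LocConst.Generic

/-!
# Cohen–Macaulay as a pointwise property
-/

set_option backward.isDefEq.respectTransparency false

universe u

open CategoryTheory CategoryTheory.Limits AlgebraicGeometry

namespace GrothLib.CurveStk

open GrothLib.CMMor6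

theorem isCMAt_of_etale {X Y : Scheme.{u}} (e : X ⟶ Y) [Etale e] (x : X) : MoreMor.IsCMAt e x :=
  haveI : LocallyQuasiFinite e := GrothLib.LocConst.locallyQuasiFinite_of_etale e
  isCMAt_of_quasiFiniteAt e x (Flat.stalkMap e x) (e.quasiFiniteAt x)

theorem ptProp_cm : PtProp.{u} fun _ _ f x => MoreMor.IsCMAt f x where
  etale_source {X Y Z} e h _ _ _ x :=
    ⟨fun hh => (isCMAt_of_comp e h x (GrothLib.CMMor6.isLocallyNoetherian_fiber h _) hh (Flat.stalkMap e x)).2,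
      fun hh => isCMAt_comp e h x (GrothLib.CMMor6.isLocallyNoetherian_fiber (e ≫ h) _) (isCMAt_of_etale e x) hh⟩
  etale_target {X Y Z} h e _ _ _ x :=
    ⟨fun hh => (isCMAt_of_comp h e x (GrothLib.CMMor6.isLocallyNoetherian_fiber e _) hh (Flat.stalkMap h x)).1,
      fun hh => isCMAt_comp h e x (GrothLib.CMMor6.isLocallyNoetherian_fiber (h ≫ e) _) hh (isCMAt_of_etale e _)⟩
  isOpen h _ _ := isOpen_cmLocus h
  baseChange {X Y X' Y' gX f' f g} sq _ _ x' := by
    have : Flat f' := MorphismProperty.of_isPullback sq ‹Flat f›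
    rw [isCMAt_iff, isCMAt_iff, isCMAt_baseChange_iff_of_finiteType sq x']
    exact ⟨fun h => ⟨Flat.stalkMap f _, h.2⟩, fun h => ⟨Flat.stalkMap f' x', h.2⟩⟩

end GrothLib.CurveStk

namespace GrothLib.CurveStk

open GrothLib.CMMor6

theorem fibreDimAt_etale_source {X Y Z : Scheme.{u}} (e : X ⟶ Y) (h : Y ⟶ Z) [Etale e] (x : X) :
    FlatMor.fibreDimAt (e ≫ h) x = FlatMor.fibreDimAt h (e x) :=
  (Groth.Agent.S7408.result h (e ≫ h) e (𝟙 Z) (Category.comp_id _) x).symm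

theorem fibreDimAt_etale_target {X Y Z : Scheme.{u}} (h : X ⟶ Y) (e : Y ⟶ Z) [Etale e] (x : X) :
    FlatMor.fibreDimAt (h ≫ e) x = FlatMor.fibreDimAt h x := by
  have := Groth.Agent.S7408.result (h ≫ e) h (𝟙 X) e (Category.id_comp _).symm x
  simpa using this

theorem ptProp_cm_dim (d : WithBot ℕ∞) :
    PtProp.{u} fun _ _ f x => MoreMor.IsCMAt f x ∧ FlatMor.fibreDimAt f x = d where
  etale_source e h _ _ _ x := by rw [fibreDimAt_etale_source, ptProp_cm.etale_source e h]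
  etale_target h e _ _ _ x := by rw [fibreDimAt_etale_target, ptProp_cm.etale_target h e]
  isOpen {X Y} h _ _ := by
    let O : X.Opens := ⟨_, ptProp_cm.isOpen h⟩
    have hcm : ∀ z, MoreMor.IsCMAt (O.ι ≫ h) z := fun z => (isCMAt_openImmersion_comp_iff O.ι h z).2 z.2
    have hl := Groth.Agent.S9374.result (O.ι ≫ h) hcm
    have e : {x | MoreMor.IsCMAt h x ∧ FlatMor.fibreDimAt h x = d} =
        O.ι '' {z | FlatMor.fibreDimAt (O.ι ≫ h) z = d} := by
      ext x
      constructor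
      · rintro ⟨h1, h2⟩
        exact ⟨⟨x, h1⟩, (fibreDimAt_etale_source O.ι h ⟨x, h1⟩).trans h2, rfl⟩
      · rintro ⟨z, hz, rfl⟩
        exact ⟨z.2, (fibreDimAt_etale_source O.ι h z).symm.trans hz⟩
    rw [e]
    exact O.ι.isOpenEmbedding.isOpenMap _ (hl.isOpen_fiber d)
  baseChange {X Y X' Y' gX f' f g} sq _ _ x' := by
    rw [ptProp_cm.baseChange sq x', GrothLib.AlgSp.fibreDimAt_of_isPullback sq x']

end GrothLib.CurveStk

namespace GrothLib.CurveStk

open _root_.AlgSp GrothLib.AlgSp GrothLib.AlgSp.TrivLocus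

/-- Cohen–Macaulay of relative dimension `d` at every point. -/
theorem locP_cm_dim_iff {S : Scheme.{u}} {F G : Sp S} (hF : IsAlgSpace F) (hG : IsAlgSpace G) {f : F ⟶ G}
    (hf : LocP FlatLFP f) (d : WithBot ℕ∞) :
    LocP (fun _ _ g => ∀ x, MoreMor.IsCMAt g x ∧ FlatMor.fibreDimAt g x = d) f ↔
      LocP (fun _ _ g => ∀ x, MoreMor.IsCMAt g x) f ∧
        ∀ x : Points F, HasAtMor (fun _ _ h u => FlatMor.fibreDimAt h u = d) f x := by
  rw [locP_iff_forall (ptProp_cm_dim d) hF hG hf, locP_iff_forall ptProp_cm hF hG hf]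
  constructor
  · intro h
    refine ⟨fun x => ?_, fun x => ?_⟩
    · obtain ⟨U, V, a, b, k, u, ha, hb, c, hu, hq⟩ := h x
      exact ⟨U, V, a, b, k, u, ha, hb, c, hu, hq.1⟩
    · obtain ⟨U, V, a, b, k, u, ha, hb, c, hu, hq⟩ := h x
      exact ⟨U, V, a, b, k, u, ha, hb, c, hu, hq.2⟩
  · rintro ⟨h1, h2⟩ x
    obtain ⟨U, V, a, b, k, u, ha, hb, c, rfl, hq⟩ := h1 x
    exact ⟨U, V, a, b, k, u, ha, hb, c, rfl, hq, (hasAtMor_fibreDim_iff hF hG ha hb c u (· = d)).1 (h2 _)⟩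

end GrothLib.CurveStk
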