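import Groth.Prelude.Def_AlgSt3
import Groth.Agent.Lib.AlgSt.Stacky
import Groth.Agent.Lib.FibCat.Slice

/-!
# Open substacks cut out by predicates, for stacks in arbitrary universes
-/

set_option backward.isDefEq.respectTransparency false
set_option backward.isDefEq.respectTransparency.types false

universe v₂ u₂ u

open CategoryTheory CategoryTheory.Limits AlgebraicGeometry Opposite

namespace GrothLib.CurveStk

open _root_.AlgSt GrothLib.FibCat GrothLib.AlgSt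

variable {S : Scheme.{u}} {𝒳 : BasedCategory.{v₂, u₂} (Over S)} {Q : 𝒳.obj → Prop}

theorem isFibGrpd_fullSub (h𝒳 : _root_.FibCat.IsFibGrpd 𝒳.p)
    (hQ : ∀ {η η' : 𝒳.obj}, (η' ⟶ η) → Q η → Q η') : _root_.FibCat.IsFibGrpd (fullSub 𝒳 Q).p where
  exists_lift {x V} f := by
    obtain ⟨y, φ, hφ⟩ := h𝒳.exists_lift (x := x.obj) f
    refine ⟨⟨y, hQ φ x.property⟩, ObjectProperty.homMk φ, ?_⟩
    exact IsHomLift.of_fac' _ _ _ (IsHomLift.domain_eq 𝒳.p f φ) rfl (IsHomLift.fac' 𝒳.p f φ)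
  isStronglyCartesian {y x} φ :=
    { toIsHomLift := IsHomLift.map (fullSub 𝒳 Q).p φ
      universal_property' := fun {z} g ψ hψ => by
        have hψ' : 𝒳.p.IsHomLift (g ≫ 𝒳.p.map φ.hom) ψ.hom :=
          IsHomLift.of_fac' _ _ _ rfl rfl (IsHomLift.fac' (fullSub 𝒳 Q).p (g ≫ (fullSub 𝒳 Q).p.map φ) ψ)
        obtain ⟨χ, ⟨h1, h2⟩, h3⟩ := IsFibGrpd.existsUnique_lift h𝒳 (𝒳.p.map φ.hom) g φ.hom ψ.hom
        refine ⟨ObjectProperty.homMk χ, ⟨IsHomLift.of_fac' _ _ _ rfl rfl (IsHomLift.fac' 𝒳.p g χ),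
          ObjectProperty.hom_ext _ h2⟩, fun χ' hχ => ObjectProperty.hom_ext _ (h3 χ'.hom ⟨?_, ?_⟩)⟩
        · have := hχ.1
          exact IsHomLift.of_fac' _ _ _ rfl rfl (IsHomLift.fac' (fullSub 𝒳 Q).p g χ')
        · exact congrArg (fun t => t.hom) hχ.2 }

section AlgStackGen

variable {𝒜 : BasedCategory.{v₂, u₂} (Over S)} {ℬ : BasedCategory.{v₂, u₂} (Over S)}

/-- The diagonal condition descends along a functor representable by algebraic spaces. -/
theorem repByAlgSp1_diag_descends (h𝒜 : _root_.FibCat.IsFibGrpd 𝒜.p) (hℬ : _root_.FibCat.IsFibGrpd ℬ.p)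
    (hΔ : RepByAlgSp1 (_root_.FibCat.diag (_root_.FibCat.toSelf ℬ)))
    (j : 𝒜 ⥤ᵇ ℬ) [j.toFunctor.Full] [j.toFunctor.Faithful] : RepByAlgSp1 (_root_.FibCat.diag (_root_.FibCat.toSelf 𝒜)) := by
  refine repByAlgSp1_diag_of (fun U G => ?_) h𝒜
  exact repByAlgSp1_of_square (f' := G) (BasedFunctor.id _) j (IsEquivOver.refl _)
    (Iso.refl _) (repByAlgSp1_of_diag hΔ hℬ (BasedFunctor.comp G j))

/-- A category fibred in groupoids with a functor to an algebraic stack representable by algebraic spaces is an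
algebraic stack. -/
theorem isAlgStack_of_rep (h𝒜 : _root_.FibCat.IsFibGrpd 𝒜.p)
    (hℬ : IsAlgStack Scheme.fppfPrecoverage ℬ) (j : 𝒜 ⥤ᵇ ℬ) [j.toFunctor.Full] [j.toFunctor.Faithful] (hj : RepByAlgSp1 j) :
    IsAlgStack Scheme.fppfPrecoverage 𝒜 := by
  obtain ⟨U, x, hS, hJ⟩ := hℬ.atlas
  obtain ⟨Z, eZ, hZ⟩ := hj U x
  obtain ⟨V, p, pe, ps⟩ := Z.property.atlas
  exact ⟨isStack_of_repByAlgSp1 h𝒜 hℬ.isStack j hj,
    repByAlgSp1_diag_descends h𝒜 hℬ.isStack.1 hℬ.diag j, V, _,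
    repByAlgSpWith_comp_chart (fun _ _ _ _ _ b a hb _ ha => locP_etale_comp b a hb ha)
      (repByAlgSpWith_fpSnd j hS) eZ hZ pe ps,
    repByAlgSpWith_comp_chart (fun _ _ _ _ _ b a _ hb ha => isSurjectiveMor_etale_comp b a hb ha)
      (repByAlgSpWith_fpSnd j hJ) eZ hZ pe ps⟩

end AlgStackGen

/-- A pullback-stable predicate whose locus in every chart is open cuts out an open substack. -/
theorem isOpenSubstack_of_forall_open (h𝒳 : IsAlgStack Scheme.fppfPrecoverage 𝒳)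
    (hQ : ∀ {η η' : 𝒳.obj}, (η' ⟶ η) → Q η → Q η')
    (hV : ∀ (U : Over S) (y : _root_.FibCat.overCat U ⥤ᵇ 𝒳), ∃ V : U.left.Opens,
      ∀ a : (_root_.FibCat.overCat U).obj, Q (y.obj a) ↔ ∀ t, a.hom.left t ∈ V) :
    IsOpenSubstack 𝒳 Q Scheme.fppfPrecoverage := by
  have g𝒳 := h𝒳.isStack.1
  have hrep : IsOpenImm (subIncl 𝒳 Q) := by
    intro U y
    obtain ⟨V, hVy⟩ := hV U y
    let j : Over.mk (V.ι ≫ U.hom) ⟶ U := Over.homMk V.ι rfl
    let z₀ := BasedFunctor.comp (GrothLib.FibCat.overMap j) y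
    let z : _root_.FibCat.overCat (Over.mk (V.ι ≫ U.hom)) ⥤ᵇ fullSub 𝒳 Q :=
      { toFunctor := ObjectProperty.lift Q z₀.toFunctor fun a =>
          (hVy ((GrothLib.FibCat.overMap j).obj a)).2 fun t => (a.hom.left t).2
        w := z₀.w }
    let E : _root_.FibCat.overCat (Over.mk (V.ι ≫ U.hom)) ⥤ᵇ _root_.FibCat.fp y (subIncl 𝒳 Q) :=
      _root_.FibCat.fpLift (GrothLib.FibCat.overMap j) z (Iso.refl _)
    have : Mono j := (Over.forget S).mono_of_mono_map (inferInstanceAs (Mono V.ι))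
    have : (subIncl 𝒳 Q).toFunctor.Faithful := inferInstanceAs (ObjectProperty.ι Q).Faithful
    have : (subIncl 𝒳 Q).toFunctor.Full := inferInstanceAs (ObjectProperty.ι Q).Full
    have : (_root_.FibCat.fpFst y (subIncl 𝒳 Q)).toFunctor.Faithful := Fp.faithful_fpFst
    have hE : _root_.FibCat.IsEquivOver E := by
      refine FFEssSurjOver.isEquivOver ⟨⟨fun {a b} ψ => ?_⟩, ⟨fun {a b φ φ'} h => ?_⟩, fun η => ?_⟩
      · have h1 : ψ.hom.fst.left ≫ b.hom ≫ j = a.hom ≫ j := Over.w ψ.hom.fst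
        let φ : a ⟶ b := Over.homMk ψ.hom.fst.left (by rw [← cancel_mono j, Category.assoc]; exact h1)
        exact ⟨φ, (_root_.FibCat.fpFst y (subIncl 𝒳 Q)).toFunctor.map_injective
          (Over.OverMorphism.ext rfl)⟩
      · exact Over.OverMorphism.ext (congrArg (fun t => t.hom.fst.left) h)
      · have hη : Q (y.obj η.obj.fst) := hQ η.obj.iso.hom η.obj.snd.property
        have hr : Set.range η.obj.fst.hom.left ⊆ Set.range V.ι := by
          rw [Scheme.Opens.range_ι]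
          rintro _ ⟨t, rfl⟩
          exact (hVy η.obj.fst).1 hη t
        let l : η.obj.fst.left ⟶ Over.mk (V.ι ≫ U.hom) :=
          Over.homMk (IsOpenImmersion.lift V.ι η.obj.fst.hom.left hr) (by
            change IsOpenImmersion.lift V.ι η.obj.fst.hom.left hr ≫ V.ι ≫ U.hom = _
            rw [IsOpenImmersion.lift_fac_assoc]
            exact Over.w η.obj.fst.hom)
        let a : (_root_.FibCat.overCat (Over.mk (V.ι ≫ U.hom))).obj := Over.mk l
        have hl : l ≫ j = η.obj.fst.hom := Over.OverMorphism.ext (IsOpenImmersion.lift_fac V.ι _ hr)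
        let i₁ : (GrothLib.FibCat.overMap j).obj a ≅ η.obj.fst := Over.isoMk (Iso.refl _) (by
          change 𝟙 _ ≫ η.obj.fst.hom = l ≫ j
          rw [Category.id_comp, hl])
        let i₂ : z.obj a ≅ η.obj.snd :=
          (ObjectProperty.ι Q).preimageIso (y.toFunctor.mapIso i₁ ≪≫ η.obj.iso)
        refine ⟨a, Fp.isoMk i₁ i₂ ?_, (Fp.isHomLift_iff _ _).2 (IsHomLift.of_fac' _ _ _ rfl rfl (by
          change i₁.hom.left = _
          simp [i₁]
          rfl))⟩
        change y.map i₁.hom ≫ η.obj.iso.hom = 𝟙 _ ≫ (ObjectProperty.ι Q).map i₂.hom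
        rw [Category.id_comp, Functor.preimageIso_hom, Functor.map_preimage]
        rfl
    refine HasRep.of_equiv E hE (π := GrothLib.FibCat.overMap j) (Iso.refl _) ?_
    refine ⟨⟨_, AlgSp.IsAlgSpace.yon_obj _⟩, toOverCat _, isEquivOver_toOverCat _, ?_⟩
    rw [spMapOfOver_overMap]
    exact (AlgSp.repWith_yon_map_iff _ _).2 (inferInstanceAs (IsOpenImmersion V.ι))
  have : (subIncl 𝒳 Q).toFunctor.Faithful := inferInstanceAs (ObjectProperty.ι Q).Faithful
  have : (subIncl 𝒳 Q).toFunctor.Full := inferInstanceAs (ObjectProperty.ι Q).Full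
  exact ⟨⟨fun e h => hQ e.inv h⟩,
    isAlgStack_of_rep (isFibGrpd_fullSub g𝒳 hQ) h𝒳 _ (repByAlgSp1_of_repByAlgSpWith (f := subIncl 𝒳 Q) (by unfold IsOpenImm at hrep; exact hrep)), hrep⟩

end GrothLib.CurveStk
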