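import Groth.Agent.Lib.CurveStk.PtLocus
import Groth.Agent.Lib.LCI6.LocusBaseChange
import Groth.Agent.Lib.LCI6.LocusScheme
import Groth.Agent.Lib.LCI6.Koszul
import Groth.Agent.S9730
import Groth.Agent.S9758

/-!
# Local complete intersection as a pointwise property
-/

set_option backward.isDefEq.respectTransparency false

universe u

open CategoryTheory CategoryTheory.Limits AlgebraicGeometry TopologicalSpace

namespace GrothLib.CurveStk

open GrothLib.LCI6

/-- The LCI locus descends along étale morphisms. -/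
theorem inLocus_of_etale_comp {X Y Z : Scheme.{u}} (e : X ⟶ Y) [Etale e] (h : Y ⟶ Z) {x : X}
    (hx : InLocus (e ≫ h) x) : InLocus h (e x) := by
  let O : X.Opens := ⟨{z | InLocus (e ≫ h) z}, isOpen_inLocus _⟩
  let O' : Y.Opens := ⟨Set.range (O.ι ≫ e), (O.ι ≫ e).isOpenMap.isOpen_range⟩
  let e' : O.toScheme ⟶ O'.toScheme := IsOpenImmersion.lift O'.ι (O.ι ≫ e) (by
    rw [Scheme.Opens.range_ι]; rfl)
  have he' : e' ≫ O'.ι = O.ι ≫ e := IsOpenImmersion.lift_fac _ _ _
  have : Etale (e' ≫ O'.ι) := by rw [he']; infer_instance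
  have : Etale e' := Etale.of_comp e' O'.ι
  have : Surjective e' := ⟨fun y => by
    obtain ⟨o, ho⟩ := y.2
    refine ⟨o, Subtype.ext ?_⟩
    rw [← ho, ← he']
    rfl⟩
  have hs : Synt.IsSyntomicMor e' := (Groth.Agent.S9758.result e').1
    ⟨inferInstance, (inLocus_iff_of_isKoszul e').2 fun z => inLocus_of_smooth e' z⟩
  have hc : ∀ z, InLocus (e' ≫ O'.ι ≫ h) z := fun z => by
    rw [← Category.assoc, he', Category.assoc]
    exact (inLocus_openImmersion_comp_iff O.ι (e ≫ h)).2 z.2
  have := (inLocus_iff_of_isKoszul _).1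
    ((Groth.Agent.S9730.result e' hs (O'.ι ≫ h)).1 ((inLocus_iff_of_isKoszul _).2 hc)) (e' ⟨x, hx⟩)
  rw [inLocus_openImmersion_comp_iff O'.ι h, ← Scheme.Hom.comp_apply, he'] at this
  exact this

theorem ptProp_koszul : PtProp.{u} fun _ _ f x => Synt.IsKoszulAt f x where
  etale_source e h _ _ _ x := by
    simp only [isKoszulAt_iff_inLocus]
    exact ⟨inLocus_of_etale_comp e h, fun hh => inLocus_comp (inLocus_of_smooth e x) hh⟩
  etale_target h e _ _ _ x := by
    simp only [isKoszulAt_iff_inLocus]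
    exact inLocus_smooth_comp_iff h e
  isOpen h _ _ := by
    simp only [isKoszulAt_iff_inLocus]
    exact isOpen_inLocus h
  baseChange {X Y X' Y' gX f' f g} sq _ _ x' := by
    simp only [isKoszulAt_iff_inLocus]
    haveI : Flat (f ≫ 𝟙 Y) := by rw [Category.comp_id]; infer_instance
    haveI : LocallyOfFinitePresentation (f ≫ 𝟙 Y) := by rw [Category.comp_id]; infer_instance
    exact inLocus_baseChange f (𝟙 Y) g g (𝟙 Y') (IsPullback.of_vert_isIso ⟨by simp⟩) gX f'
      (by rw [Category.comp_id, Category.comp_id]; exact sq) sq.w x'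

end GrothLib.CurveStk
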