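import Groth.Prelude.Def_StCurv2
import Groth.Agent.Lib.AlgSp.UnramLocusSpace
import Groth.Agent.Lib.AlgSp.WhereLocus
import Groth.Agent.Lib.CurveStk.Generic
import Groth.Agent.Lib.AlgSp.ThickGlobal
import Groth.Agent.Lib.FibCat.Yoneda

/-!
# Open substacks of curves cut out by pointwise conditions on the structure morphism

* `PtProp`: a pointwise property of flat, locally finitely presented morphisms of schemes which is etale
  local, open, and invariant under base change;
* `locP_iff_forall`, `isOpen_hasAtMor`, `preimage_hasAtMor`: its locus on algebraic spaces;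
* `isOpenSubstack_curves`: curves all of whose points have the property form an open substack.
-/

set_option backward.isDefEq.respectTransparency false
set_option backward.isDefEq.respectTransparency.types false

universe u

open CategoryTheory CategoryTheory.Limits AlgebraicGeometry TopologicalSpace

namespace GrothLib.CurveStk

open _root_.AlgSp GrothLib.AlgSp GrothLib.AlgSp.TrivLocus GrothLib.FibCat

/-- A pointwise property of flat, locally finitely presented morphisms. -/
structure PtProp (Q : ∀ (U V : Scheme.{u}), (U ⟶ V) → ↥U → Prop) : Prop where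
  etale_source : ∀ {X Y Z : Scheme.{u}} (e : X ⟶ Y) (h : Y ⟶ Z) [Etale e] [Flat h]
    [LocallyOfFinitePresentation h] (x : X), Q X Z (e ≫ h) x ↔ Q Y Z h (e x)
  etale_target : ∀ {X Y Z : Scheme.{u}} (h : X ⟶ Y) (e : Y ⟶ Z) [Etale e] [Flat h]
    [LocallyOfFinitePresentation h] (x : X), Q X Z (h ≫ e) x ↔ Q X Y h x
  isOpen : ∀ {X Y : Scheme.{u}} (h : X ⟶ Y) [Flat h] [LocallyOfFinitePresentation h], IsOpen {x | Q X Y h x}
  baseChange : ∀ {X Y X' Y' : Scheme.{u}} {gX : X' ⟶ X} {f' : X' ⟶ Y'} {f : X ⟶ Y} {g : Y' ⟶ Y}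
    (_ : IsPullback gX f' f g) [Flat f] [LocallyOfFinitePresentation f] (x' : X'), Q X' Y' f' x' ↔ Q X Y f (gX x')

/-- Flat and locally of finite presentation. -/
abbrev FlatLFP : MorphismProperty Scheme.{u} := @Flat ⊓ @LocallyOfFinitePresentation

theorem etLocal_flatLFP : EtLocal FlatLFP.{u} := EtLocal.flat.inf EtLocal.lfp

variable {Q : ∀ (U V : Scheme.{u}), (U ⟶ V) → ↥U → Prop} (hQ : PtProp Q)
variable {S : Scheme.{u}} {F G : Sp S}

include hQ in
theorem hasAtMor_iff (hF : IsAlgSpace F) (hG : IsAlgSpace G) {f : F ⟶ G} (hf : LocP FlatLFP f)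
    {U V : Over S} {a : (yon S).obj U ⟶ F} {b : (yon S).obj V ⟶ G} {h : U ⟶ V} (ha : RepWith @Etale a)
    (hb : RepWith @Etale b) (c : a ≫ f = (yon S).map h ≫ b) (u : ↥U.left) :
    HasAtMor Q f (Points.ofPt a u) ↔ Q U.left V.left h.left u := by
  refine ⟨fun ⟨U', V', a', b', h', u', ha', hb', c', hu', hq⟩ => ?_, fun hq =>
    ⟨U, V, a, b, h, u, ha, hb, c, rfl, hq⟩⟩
  obtain ⟨_, _⟩ := hf a b h ha hb c
  obtain ⟨_, _⟩ := hf a' b' h' ha' hb' c'
  obtain ⟨W, P, m, w₁, w₂, q₁, q₂, w, _, _, _, _, m₁, m₂, rfl, rfl⟩ :=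
    exists_common_charts hF hG ha ha' hb hb' c c' hu'.symm
  obtain ⟨_, _⟩ : FlatLFP m.left := EtLocal.cancel etLocal_flatLFP m.left q₁.left (by
    rw [m₁]; exact ⟨inferInstance, inferInstance⟩)
  rw [← hQ.etale_source w₁.left h.left w]
  simp only [← m₁]
  rw [hQ.etale_target, ← hQ.etale_target m.left q₂.left]
  simp only [m₂]
  rw [hQ.etale_source w₂.left h'.left]
  exact hq

include hQ in
theorem isOpen_hasAtMor (hF : IsAlgSpace F) (hG : IsAlgSpace G) {f : F ⟶ G} (hf : LocP FlatLFP f) :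
    IsOpen {x : Points F | HasAtMor Q f x} := by
  obtain ⟨V, b, hb, hbs⟩ := hG.atlas
  obtain ⟨U, a, h, ha, c, has⟩ := exists_chart_over hF hG f b hb
  obtain ⟨_, _⟩ := hf a b h ha hb c
  have e : {x : Points F | HasAtMor Q f x} = Points.ofPt a '' {u | Q U.left V.left h.left u} := by
    ext x
    obtain ⟨u, rfl⟩ := surjective_ofPt_of_repWith (has hbs) x
    refine ⟨fun hx => ⟨u, (hasAtMor_iff hQ hF hG hf ha hb c u).1 hx, rfl⟩, ?_⟩
    rintro ⟨u', hu', e⟩
    rw [← e]
    exact (hasAtMor_iff hQ hF hG hf ha hb c u').2 hu'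
  rw [e]
  exact isOpenMap_ofPt_of_etale ha _ (hQ.isOpen h.left)

include hQ in
theorem preimage_hasAtMor {F' G' : Sp S} (hF : IsAlgSpace F) (hG : IsAlgSpace G) (hF' : IsAlgSpace F')
    (hG' : IsAlgSpace G') {f : F ⟶ G} (hf : LocP FlatLFP f) {f' : F' ⟶ G'} {p : F' ⟶ F} {g : G' ⟶ G}
    (sq : IsPullback p f' f g) (x : Points F') : HasAtMor Q f' x ↔ HasAtMor Q f (Points.map p x) := by
  obtain ⟨V, b, hb, hbs⟩ := hG.atlas
  obtain ⟨U, a, h, ha, c, has⟩ := exists_chart_over hF hG f b hb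
  obtain ⟨_, _⟩ := hf a b h ha hb c
  have hf' : LocP FlatLFP f' := etLocal_flatLFP.locP_of_isPullback hF hG hG' sq hf
  obtain ⟨W', c', m, hc', -, hpts⟩ := exists_bc_chart_point hF' hG hG' sq ha (has hbs) hb c
  obtain ⟨u, a', ha', hp, hf'', rfl⟩ := hpts x
  have e : Points.map p (Points.ofPt a' u) = Points.ofPt a ((pullback.fst h m).left u) := by
    rw [Points.map_ofPt, hp, ofPt_map_comp]
  rw [e]
  exact (hasAtMor_iff hQ hF' hG' hf' ha' hc' hf'' u).trans
    ((hQ.baseChange (isPullback_left (IsPullback.of_hasPullback h m)) u).trans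
      (hasAtMor_iff hQ hF hG hf ha hb c _).symm)

include hQ in
theorem locP_iff_forall (hF : IsAlgSpace F) (hG : IsAlgSpace G) {f : F ⟶ G} (hf : LocP FlatLFP f) :
    LocP (fun U V g => ∀ x, Q U V g x) f ↔ ∀ x : Points F, HasAtMor Q f x := by
  constructor
  · intro hq x
    obtain ⟨V, b, hb, hbs⟩ := hG.atlas
    obtain ⟨U, a, h, ha, c, has⟩ := exists_chart_over hF hG f b hb
    obtain ⟨u, rfl⟩ := surjective_ofPt_of_repWith (has hbs) x
    exact (hasAtMor_iff hQ hF hG hf ha hb c u).2 (hq a b h ha hb c u)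
  · intro hq U V a b h ha hb c u
    exact (hasAtMor_iff hQ hF hG hf ha hb c u).1 (hq _)

theorem isClosedMor_of_isUnivClosedMor (hG : IsAlgSpace G) {f : F ⟶ G} (hf : IsUnivClosedMor f) :
    IsClosedMor f :=
  hf hG (𝟙 G) (𝟙 F) f (IsPullback.of_horiz_isIso ⟨by simp⟩)

open CurvSt in
theorem locP_flatLFP_curveFam {n : ℕ} {A : SpFamObj S n} (hA : IsCurveFam A) : LocP FlatLFP A.f :=
  fun _ _ a b h ha hb c => ⟨hA.2.1 a b h ha hb c, hA.2.2.2.1.1 a b h ha hb c⟩

open CurvSt in
include hQ in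
/-- Curves satisfying a pointwise property at all points of the total space form an open substack. -/
theorem isOpenSubstack_curves {n : ℕ} (hC : AlgSt.IsAlgStack Scheme.fppfPrecoverage (Curves S n)) :
    AlgSt.IsOpenSubstack (Curves S n) (fun A => LocP (fun U V g => ∀ x, Q U V g x) A.obj.f)
      Scheme.fppfPrecoverage := by
  have key : ∀ A : (Curves S n).obj, ∃ O : A.obj.base.left.Opens, ∀ (A' : (Curves S n).obj) (φ : A' ⟶ A),
      LocP (fun U V g => ∀ x, Q U V g x) A'.obj.f ↔ ∀ t, φ.hom.base.left t ∈ O := by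
    intro A
    have hY : IsAlgSpace ((yon S).obj A.obj.base) := IsAlgSpace.yon_obj _
    have hf := locP_flatLFP_curveFam A.property
    let bad : Set (Points A.obj.X) := {x | ¬ HasAtMor Q A.obj.f x}
    have hc : IsClosed (Points.map A.obj.f '' bad) :=
      isClosedMor_of_isUnivClosedMor hY A.property.2.2.1.2.2 _
        (isOpen_hasAtMor hQ A.property.1 hY hf).isClosed_compl
    let O : A.obj.base.left.Opens :=
      ⟨Points.ofScheme A.obj.base ⁻¹' (Points.map A.obj.f '' bad)ᶜ,
        hc.isOpen_compl.preimage (Points.continuous_ofPt _)⟩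
    refine ⟨O, fun A' φ => ?_⟩
    have hY' : IsAlgSpace ((yon S).obj A'.obj.base) := IsAlgSpace.yon_obj _
    have sq := φ.hom.cart
    rw [locP_iff_forall hQ A'.property.1 hY' (locP_flatLFP_curveFam A'.property)]
    simp only [preimage_hasAtMor hQ A.property.1 hY A'.property.1 hY' hf sq]
    constructor
    · rintro h t ⟨x, hx, e⟩
      rw [← map_yon_ofPt] at e
      obtain ⟨x', hx', -⟩ := exists_of_isPullback sq e
      exact hx (hx' ▸ h x')
    · intro h x'
      by_contra hx
      refine h (Points.toScheme _ (Points.map A'.obj.f x')) ⟨_, hx, ?_⟩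
      rw [← Points.map_comp, sq.w, Points.map_comp, ← map_yon_ofPt, Points.ofScheme_toScheme]
  refine isOpenSubstack_of_forall_open hC (fun {A A'} φ h => ?_) fun U y => ?_
  · obtain ⟨O, hO⟩ := key A
    have hA := (hO A (𝟙 A)).1 h
    exact (hO A' φ).2 fun t => hA _
  · obtain ⟨O, hO⟩ := key (y.obj (Yon.idObj U))
    let e : U ⟶ (y.obj (Yon.idObj U)).obj.base := eqToHom (y.w_obj (Yon.idObj U)).symm
    refine ⟨e.left ⁻¹ᵁ O, fun a => ?_⟩
    let ψ : a ⟶ Yon.idObj U := Over.homMk a.hom (by exact Category.comp_id _)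
    have hψ : (y.map ψ).hom.base = eqToHom (y.w_obj a) ≫ a.hom ≫ e := GrothLib.FibCat.p_map_map y ψ
    rw [hO _ (y.map ψ), hψ]
    have hsurj : Function.Surjective (eqToHom (y.w_obj a)).left := fun t =>
      ⟨(eqToHom (y.w_obj a).symm).left t, by rw [← Scheme.Hom.comp_apply, ← Over.comp_left]; simp⟩
    constructor
    · intro h t
      obtain ⟨t, rfl⟩ := hsurj t
      exact h t
    · intro h t
      exact h _

end GrothLib.CurveStk

namespace GrothLib.CurveStk

open CurvSt _root_.AlgSp GrothLib.AlgSp GrothLib.AlgSp.TrivLocus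

/-- The empty family over a base. -/
noncomputable def emptyFam {S : Scheme.{u}} (T : Over S) : SpFamObj S 0 :=
  (toSpFam S 0).obj ⟨T, (∅ : Scheme.{u}), Scheme.emptyTo T.left, Fin.elim0, fun i => i.elim0⟩

theorem isEmpty_points_emptyFam {S : Scheme.{u}} (T : Over S) : IsEmpty (Points (emptyFam T).X) := by
  refine ⟨fun x => ?_⟩
  have := Points.toScheme (Over.mk (Scheme.emptyTo T.left ≫ T.hom)) x
  exact isEmptyElim (α := (∅ : Scheme.{u})) this

theorem isCurveFam_emptyFam {S : Scheme.{u}} (T : Over S) : IsCurveFam (emptyFam T) := by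
  have hT : IsAlgSpace ((yon S).obj T) := IsAlgSpace.yon_obj _
  have hf : RepWith @IsFinite (emptyFam T).f :=
    (repWith_yon_map_iff _ _).2 (inferInstanceAs (IsFinite (Scheme.emptyTo T.left)))
  have hfl : RepWith @Flat (emptyFam T).f :=
    (repWith_yon_map_iff _ _).2 (inferInstanceAs (Flat (Scheme.emptyTo T.left)))
  have hfp : RepWith @LocallyOfFinitePresentation (emptyFam T).f :=
    (repWith_yon_map_iff _ _).2 (inferInstanceAs (LocallyOfFinitePresentation (Scheme.emptyTo T.left)))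
  have hp := isProperMor_of_finite hT hf
  refine ⟨IsAlgSpace.yon_obj _, EtLocal.flat.locP_of_repWith hT hfl, hp,
    ⟨EtLocal.lfp.locP_of_repWith hT hfp, hp.2.1.2,
      repWith_mono hp.1 fun _ _ g (hg : IsClosedImmersion g) => show QuasiCompact g from inferInstance⟩,
    fun x => (isEmpty_points_emptyFam T).elim x⟩

/-- Vacuous conditions have members over every base. -/
theorem nonempty_fibre_of_forall_empty {S : Scheme.{u}} {P : (Curves S 0).obj → Prop} (T : Over S)
    (h : P ⟨emptyFam T, isCurveFam_emptyFam T⟩) : Nonempty ((AlgSt.fullSub (Curves S 0) P).p.Fiber T) :=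
  ⟨⟨⟨⟨emptyFam T, isCurveFam_emptyFam T⟩, h⟩, rfl⟩⟩

theorem locP_emptyFam {S : Scheme.{u}} (T : Over S) {Q : ∀ (U V : Scheme.{u}), (U ⟶ V) → ↥U → Prop} :
    LocP (fun U V g => ∀ x, Q U V g x) (emptyFam T).f := fun _ _ a _ _ _ _ _ u =>
  (isEmpty_points_emptyFam T).elim (Points.ofPt a u)

end GrothLib.CurveStk
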