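import Groth.Agent.Lib.CurveStk.CM
import Groth.Agent.Lib.AlgSt.SmoothLocus
import Groth.Agent.S16763
import Groth.Agent.S2768
import Groth.Agent.Lib.AlgSp.RelDimSpace

/-!
# Smoothness as a pointwise property
-/

set_option backward.isDefEq.respectTransparency false

universe u

open CategoryTheory CategoryTheory.Limits AlgebraicGeometry

namespace GrothLib.CurveStk

open GrothLib.AlgSt (smoothOpen mem_smoothOpen smoothOpen_comp smooth_iff_le_smoothOpen)

theorem mem_smoothOpen_comp_etale {X Y Z : Scheme.{u}} (h : X ⟶ Y) (e : Y ⟶ Z) [Etale e] (x : X) :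
    x ∈ smoothOpen (h ≫ e) ↔ x ∈ smoothOpen h := by
  simp only [mem_smoothOpen]
  constructor
  · rintro ⟨O, hx, hO⟩
    exact ⟨O, hx, GrothLib.GrpSchField.smooth_of_comp_etale (O.ι ≫ h) e (by rw [Category.assoc]; exact hO)⟩
  · rintro ⟨O, hx, hO⟩
    refine ⟨O, hx, ?_⟩
    rw [← Category.assoc]
    infer_instance

/-- Smooth at a point of a flat morphism iff the fibre is smooth there. -/
theorem mem_smoothOpen_iff_fibre {X Y : Scheme.{u}} (f : X ⟶ Y) [Flat f] [LocallyOfFinitePresentation f] (x : X) :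
    x ∈ smoothOpen f ↔ f.asFiber x ∈ smoothOpen (f.fiberToSpecResidueField (f x)) := by
  simp only [mem_smoothOpen]
  refine (Groth.Agent.S16763.result (𝟙 Y) f f (Category.comp_id f) x (Flat.stalkMap f x) (f.asFiber x)
    (f.fiberι_asFiber x)).trans ?_
  let ψ := CohIII.fiberMapOver f f (𝟙 Y) (Category.comp_id f) (f x)
  have e : ψ ≫ pullback.snd (𝟙 Y) (Y.fromSpecResidueField (f x)) = f.fiberToSpecResidueField (f x) := by
    refine (pullback.lift_snd _ _ _).trans ?_
    exact Category.comp_id _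
  refine exists_congr fun V => and_congr_right fun _ => ⟨fun hV => ?_, fun hV => ?_⟩
  · rw [← e, ← Category.assoc]
    exact MorphismProperty.comp_mem _ _ _ hV (inferInstance : Smooth (pullback.snd (𝟙 Y) (Y.fromSpecResidueField (f x))))
  · refine GrothLib.GrpSchField.smooth_of_comp_etale _ (pullback.snd (𝟙 Y) (Y.fromSpecResidueField (f x))) ?_
    rw [Category.assoc, e]
    exact hV

theorem mem_smoothOpen_baseChange {X Y X' Y' : Scheme.{u}} {gX : X' ⟶ X} {f' : X' ⟶ Y'} {f : X ⟶ Y} {g : Y' ⟶ Y}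
    (sq : IsPullback gX f' f g) [Flat f] [LocallyOfFinitePresentation f] (x' : X') :
    x' ∈ smoothOpen f' ↔ gX x' ∈ smoothOpen f := by
  constructor
  · intro h
    have : Flat f' := MorphismProperty.of_isPullback sq ‹Flat f›
    have : LocallyOfFinitePresentation f' := MorphismProperty.of_isPullback sq ‹LocallyOfFinitePresentation f›
    let y' := f' x'
    let π := pullback.map f' (Y'.fromSpecResidueField y') f (Y.fromSpecResidueField (g y')) gX
      (Spec.map (g.residueFieldMap y')) g sq.w.symm (by simp)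
    have hπ : IsPullback π (f'.fiberToSpecResidueField y') (f.fiberToSpecResidueField (g y'))
        (Spec.map (g.residueFieldMap y')) := isPullback_fiberToSpecResidueField_of_isPullback sq y'
    have hz := (mem_smoothOpen_iff_fibre f' x').1 h
    have : Flat (Spec.map (g.residueFieldMap y')) := GrothLib.CurveLocus.flat_to_spec_field (k := Y.residueField (g y')) _
    have : LocallyOfFinitePresentation (f.fiberToSpecResidueField (g y')) :=
      MorphismProperty.pullback_snd f _ inferInstance
    have hz' : hπ.isoPullback.hom (f'.asFiber x') ∈ smoothOpen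
        (pullback.snd (f.fiberToSpecResidueField (g y')) (Spec.map (g.residueFieldMap y'))) := by
      have := smoothOpen_comp hπ.isoPullback.hom
        (pullback.snd (f.fiberToSpecResidueField (g y')) (Spec.map (g.residueFieldMap y')))
      rw [hπ.isoPullback_hom_snd] at this
      exact this.le hz
    have h1 := GrothLib.AlgSt.fst_mem_smoothOpen (f.fiberToSpecResidueField (g y'))
      (Spec.map (g.residueFieldMap y')) (Or.inr ‹_›) _ hz'
    replace h1 : π (f'.asFiber x') ∈ smoothOpen (f.fiberToSpecResidueField (g y')) := by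
      have e := congrArg (fun k : f'.fiber y' ⟶ f.fiber (g y') => k (f'.asFiber x')) hπ.isoPullback_hom_fst
      exact e ▸ h1
    have hx : f.fiberι (g y') (π (f'.asFiber x')) = gX x' := by
      show (π ≫ pullback.fst f (Y.fromSpecResidueField (g y'))) (f'.asFiber x') = gX x'
      rw [pullback.lift_fst, Scheme.Hom.comp_apply]
      exact congrArg gX (f'.fiberι_asFiber x')
    revert h1 hx
    generalize π (f'.asFiber x') = w
    have hy : g y' = f (gX x') := by rw [← Scheme.Hom.comp_apply f', ← sq.w, Scheme.Hom.comp_apply]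
    revert w
    rw [hy]
    intro w h1 hx
    rw [mem_smoothOpen_iff_fibre]
    obtain rfl : w = f.asFiber (gX x') :=
      (f.fiberι _).isEmbedding.injective (hx.trans (f.fiberι_asFiber _).symm)
    exact h1
  · intro h
    obtain ⟨O, hO, hs⟩ := mem_smoothOpen.1 h
    exact mem_smoothOpen.2 ⟨gX ⁻¹ᵁ O, hO,
      MorphismProperty.of_isPullback ((isPullback_morphismRestrict gX O).paste_vert sq) hs⟩

theorem ptProp_smooth : PtProp.{u} fun _ _ f x => x ∈ smoothOpen f where
  etale_source e h _ _ _ x := by rw [smoothOpen_comp]; exact Iff.rfl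
  etale_target h e _ _ _ x := mem_smoothOpen_comp_etale h e x
  isOpen h _ _ := (smoothOpen h).isOpen
  baseChange sq _ _ x' := mem_smoothOpen_baseChange sq x'

/-- A smooth morphism is, near every point, of constant relative dimension. -/
theorem exists_chart_smoothRelDim {X Y : Scheme.{u}} (f : X ⟶ Y) [Smooth f] (x : X) :
    ∃ (U : Y.Opens) (_ : IsAffineOpen U) (V : X.Opens) (_ : IsAffineOpen V) (e : V ≤ f ⁻¹ᵁ U) (n : ℕ),
      x ∈ V ∧ RingHom.IsStandardSmoothOfRelativeDimension n (f.appLE U V e).hom ∧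
        ∀ y ∈ V, FlatMor.fibreDimAt f y = (n : WithBot ℕ∞) := by
  obtain ⟨U, hU, V, hV, hx, e, hs⟩ := Smooth.exists_isStandardSmooth f x
  letI := (f.appLE U V e).hom.toAlgebra
  obtain ⟨ι, σ, _, _, ⟨P⟩⟩ := (hs : Algebra.IsStandardSmooth Γ(Y, U) Γ(X, V)).out
  have hn : RingHom.IsStandardSmoothOfRelativeDimension P.dimension (f.appLE U V e).hom :=
    P.isStandardSmoothOfRelativeDimension rfl
  exact ⟨U, hU, V, hV, e, P.dimension, hx, hn, fun y hy =>
    GrothLib.AlgSp.fibreDimAt_eq_of_standardSmooth _ f hU hV e hn y hy⟩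

theorem smoothOfRelativeDimension_of_fibreDim {X Y : Scheme.{u}} (f : X ⟶ Y) [Smooth f] (n : ℕ)
    (h : ∀ x, FlatMor.fibreDimAt f x = (n : WithBot ℕ∞)) : SmoothOfRelativeDimension n f := by
  refine ⟨fun x => ?_⟩
  obtain ⟨U, hU, V, hV, e, m, hx, hm, hd⟩ := exists_chart_smoothRelDim f x
  obtain rfl : m = n := by exact_mod_cast (hd x hx).symm.trans (h x)
  exact ⟨U, hU, V, hV, hx, e, hm⟩

theorem ptProp_smooth_dim (d : WithBot ℕ∞) :
    PtProp.{u} fun _ _ f x => x ∈ smoothOpen f ∧ FlatMor.fibreDimAt f x = d where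
  etale_source e h _ _ _ x := and_congr (ptProp_smooth.etale_source e h x) (by rw [fibreDimAt_etale_source])
  etale_target h e _ _ _ x := and_congr (ptProp_smooth.etale_target h e x) (by rw [fibreDimAt_etale_target])
  isOpen {X Y} h _ _ := by
    refine isOpen_iff_forall_mem_open.2 ?_
    rintro x ⟨hx, hd⟩
    let O := smoothOpen h
    haveI : Smooth (O.ι ≫ h) := (smooth_iff_le_smoothOpen h O).2 le_rfl
    obtain ⟨U, hU, V, hV, e, m, hxV, -, hm⟩ := exists_chart_smoothRelDim (O.ι ≫ h) ⟨x, hx⟩
    refine ⟨O.ι '' (V : Set O), ?_, O.ι.isOpenEmbedding.isOpenMap _ V.isOpen, ⟨_, hxV, rfl⟩⟩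
    rintro _ ⟨z, hz, rfl⟩
    refine ⟨z.2, ?_⟩
    have h1 := (fibreDimAt_etale_source O.ι h z).symm.trans (hm z hz)
    have h2 := (fibreDimAt_etale_source O.ι h ⟨x, hx⟩).symm.trans (hm ⟨x, hx⟩ hxV)
    exact h1.trans (h2.symm.trans hd)
  baseChange sq _ _ x' := and_congr (ptProp_smooth.baseChange sq x')
    (by rw [GrothLib.AlgSp.fibreDimAt_of_isPullback sq x'])

theorem smooth_iff_forall_mem {X Y : Scheme.{u}} (f : X ⟶ Y) : Smooth f ↔ ∀ x, x ∈ smoothOpen f := by
  refine ⟨fun h x => by rw [GrothLib.AlgSt.smoothOpen_eq_top]; trivial, fun h => ?_⟩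
  have := (smooth_iff_le_smoothOpen f ⊤).2 fun x _ => h x
  rwa [← Scheme.topIso_hom, MorphismProperty.cancel_left_of_respectsIso @Smooth] at this

end GrothLib.CurveStk

namespace GrothLib.CurveStk

open _root_.AlgSp GrothLib.AlgSp GrothLib.AlgSp.TrivLocus
open GrothLib.AlgSt (smoothOpen)

theorem smooth_prop_eq : (fun (U V : Scheme.{u}) (g : U ⟶ V) => ∀ x, x ∈ smoothOpen g) = @Smooth :=
  funext fun _ => funext fun _ => funext fun g => propext (smooth_iff_forall_mem g).symm

theorem smoothOfRelativeDimension_prop_eq (n : ℕ) :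
    (fun (U V : Scheme.{u}) (g : U ⟶ V) => ∀ x, x ∈ smoothOpen g ∧ FlatMor.fibreDimAt g x = (n : WithBot ℕ∞)) =
      fun (_ _ : Scheme.{u}) g => SmoothOfRelativeDimension n g := by
  refine funext fun U => funext fun V => funext fun g => propext ⟨fun h => ?_, fun h x => ?_⟩
  · haveI : Smooth g := (smooth_iff_forall_mem g).2 fun x => (h x).1
    exact smoothOfRelativeDimension_of_fibreDim g n fun x => (h x).2
  · haveI := h
    haveI : Smooth g := SmoothOfRelativeDimension.smooth n g
    exact ⟨(smooth_iff_forall_mem g).1 ‹_› x, Groth.Agent.S2768.result n g x⟩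

end GrothLib.CurveStk
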